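import Groth.Agent.AdicRingLib.Completion
import Mathlib

/-!
# Partial derivatives on restricted power series
-/

set_option autoImplicit false
set_option linter.unusedSectionVars false
set_option linter.style.haveILetI false
set_option maxSynthPendingDepth 3

universe u

open MvPolynomial

namespace FormalCILib

variable {A : Type u} [CommRing A] (t : A) (r : ℕ)

/-- The restricted power series. -/
abbrev Hat : Type u :=
  AdicCompletion (Ideal.span {MvPolynomial.C (σ := Fin r) t}) (MvPolynomial (Fin r) A)

/-- Polynomials as restricted power series. -/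
noncomputable abbrev am : MvPolynomial (Fin r) A →+* Hat t r := algebraMap _ _

theorem am_C (c : A) : am t r (C c) = algebraMap A (Hat t r) c := rfl

theorem span_pow (n : ℕ) :
    ((Ideal.span {C (σ := Fin r) t}) ^ n).map (am t r) = Ideal.span {algebraMap A (Hat t r) t ^ n} := by
  rw [Ideal.span_singleton_pow, Ideal.map_span, Set.image_singleton, map_pow, am_C]

theorem mem_iff (n : ℕ) (x : Hat t r) :
    x ∈ Ideal.span {algebraMap A (Hat t r) t ^ n} ↔ x.val n = 0 := by
  rw [← span_pow]
  exact AdicRingLib.mem_map_pow_iff (Submodule.fg_span_singleton _) n x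

theorem am_mem_iff (n : ℕ) (p : MvPolynomial (Fin r) A) :
    am t r p ∈ Ideal.span {algebraMap A (Hat t r) t ^ n} ↔ C t ^ n ∣ p := by
  rw [← span_pow, ← Ideal.mem_span_singleton, ← Ideal.span_singleton_pow]
  exact AdicRingLib.algebraMap_mem_map_pow_iff (Submodule.fg_span_singleton _) n p

theorem exists_approx (n : ℕ) (x : Hat t r) :
    ∃ (p : MvPolynomial (Fin r) A) (z : Hat t r), x = am t r p + algebraMap A (Hat t r) t ^ n * z := by
  obtain ⟨p, hp⟩ := AdicRingLib.exists_sub_mem_map_pow
    (Submodule.fg_span_singleton (C (σ := Fin r) t)) n x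
  rw [show Ideal.map (algebraMap (MvPolynomial (Fin r) A) (Hat t r)) (Ideal.span {C (σ := Fin r) t} ^ n) =
    Ideal.span {algebraMap A (Hat t r) t ^ n} from span_pow t r n, Ideal.mem_span_singleton] at hp
  obtain ⟨z, hz⟩ := hp
  exact ⟨p, z, by rw [← hz]; ring⟩

theorem hat_ext {x y : Hat t r} (h : ∀ n, x - y ∈ Ideal.span {algebraMap A (Hat t r) t ^ n}) : x = y :=
  AdicCompletion.ext fun n => by
    have := (mem_iff t r n _).1 (h n)
    rwa [AdicCompletion.val_sub_apply, sub_eq_zero] at this

theorem pderiv_dvd {n : ℕ} {p : MvPolynomial (Fin r) A} (h : C t ^ n ∣ p) (j : Fin r) : C t ^ n ∣ pderiv j p := by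
  obtain ⟨q, rfl⟩ := h
  rw [← map_pow, pderiv_C_mul]
  exact dvd_mul_right _ _

/-- The value of the partial derivative, characterised by approximations. -/
theorem exists_deriv (j : Fin r) (x : Hat t r) :
    ∃ z : Hat t r, ∀ (n : ℕ) (p : MvPolynomial (Fin r) A), x - am t r p ∈ Ideal.span {algebraMap A (Hat t r) t ^ n} →
      z - am t r (pderiv j p) ∈ Ideal.span {algebraMap A (Hat t r) t ^ n} := by
  choose p z hpz using fun n => exists_approx t r n x
  have key : ∀ n q, x - am t r q ∈ Ideal.span {algebraMap A (Hat t r) t ^ n} →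
      C t ^ n ∣ pderiv j q - pderiv j (p n) := fun n q hq => by
    rw [← map_sub]
    refine pderiv_dvd t r ((am_mem_iff t r n _).1 ?_) j
    rw [map_sub, show am t r q - am t r (p n) = algebraMap A (Hat t r) t ^ n * z n - (x - am t r q) by rw [hpz n]; ring]
    exact sub_mem (Ideal.mul_mem_right _ _ (Ideal.mem_span_singleton_self _)) hq
  let s : AdicCompletion.AdicCauchySequence (Ideal.span {C (σ := Fin r) t}) (MvPolynomial (Fin r) A) :=
    AdicCompletion.AdicCauchySequence.mk _ _ (fun n => pderiv j (p n)) fun n => by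
      rw [SModEq.sub_mem, smul_eq_mul, Ideal.mul_top, Ideal.span_singleton_pow, Ideal.mem_span_singleton]
      refine (dvd_sub_comm).1 (key n (p (n + 1)) ?_)
      rw [hpz (n + 1), pow_succ]
      simp only [add_sub_cancel_left, mul_assoc]
      exact Ideal.mul_mem_right _ _ (Ideal.mem_span_singleton_self _)
  refine ⟨AdicCompletion.mk _ _ s, fun n q hq => ?_⟩
  have h1 : AdicCompletion.mk _ _ s - am t r (pderiv j (p n)) ∈ Ideal.span {algebraMap A (Hat t r) t ^ n} := by
    rw [mem_iff, AdicCompletion.val_sub_apply, sub_eq_zero]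
    rfl
  have h2 := (am_mem_iff t r n _).2 (key n q hq)
  rw [map_sub] at h2
  have := sub_mem h1 h2
  rwa [sub_sub_sub_cancel_right] at this

noncomputable def dFun (j : Fin r) (x : Hat t r) : Hat t r := (exists_deriv t r j x).choose

theorem dFun_spec (j : Fin r) {x : Hat t r} {n : ℕ} {p : MvPolynomial (Fin r) A}
    (h : x - am t r p ∈ Ideal.span {algebraMap A (Hat t r) t ^ n}) :
    dFun t r j x - am t r (pderiv j p) ∈ Ideal.span {algebraMap A (Hat t r) t ^ n} :=
  (exists_deriv t r j x).choose_spec n p h

theorem approx_mem (n : ℕ) (x : Hat t r) :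
    ∃ p : MvPolynomial (Fin r) A, x - am t r p ∈ Ideal.span {algebraMap A (Hat t r) t ^ n} := by
  obtain ⟨p, z, rfl⟩ := exists_approx t r n x
  exact ⟨p, by rw [add_sub_cancel_left]; exact Ideal.mul_mem_right _ _ (Ideal.mem_span_singleton_self _)⟩

theorem dFun_eq (j : Fin r) (x y : Hat t r)
    (h : ∀ (n : ℕ) (p : MvPolynomial (Fin r) A), x - am t r p ∈ Ideal.span {algebraMap A (Hat t r) t ^ n} →
      y - am t r (pderiv j p) ∈ Ideal.span {algebraMap A (Hat t r) t ^ n}) : dFun t r j x = y := by
  refine hat_ext t r fun n => ?_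
  obtain ⟨p, hp⟩ := approx_mem t r n x
  have := sub_mem (dFun_spec t r j hp) (h n p hp)
  rwa [sub_sub_sub_cancel_right] at this

theorem dFun_am (j : Fin r) (p : MvPolynomial (Fin r) A) : dFun t r j (am t r p) = am t r (pderiv j p) :=
  dFun_eq t r j _ _ fun n q hq => by
    rw [← map_sub, am_mem_iff] at hq ⊢
    rw [← map_sub]
    exact pderiv_dvd t r hq j

theorem dFun_add (j : Fin r) (x y : Hat t r) : dFun t r j (x + y) = dFun t r j x + dFun t r j y :=
  hat_ext t r fun n => by
    obtain ⟨p, hp⟩ := approx_mem t r n x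
    obtain ⟨q, hq⟩ := approx_mem t r n y
    have h : x + y - am t r (p + q) ∈ Ideal.span {algebraMap A (Hat t r) t ^ n} := by
      rw [map_add, add_sub_add_comm]; exact add_mem hp hq
    have := sub_mem (dFun_spec t r j h) (add_mem (dFun_spec t r j hp) (dFun_spec t r j hq))
    rw [map_add, map_add] at this
    convert this using 1
    ring

theorem dFun_mul (j : Fin r) (x y : Hat t r) : dFun t r j (x * y) = x * dFun t r j y + y * dFun t r j x :=
  hat_ext t r fun n => by
    obtain ⟨p, hp⟩ := approx_mem t r n x
    obtain ⟨q, hq⟩ := approx_mem t r n y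
    set T := Ideal.span {algebraMap A (Hat t r) t ^ n}
    have hxy : x * y - am t r (p * q) ∈ T := by
      rw [map_mul, show x * y - am t r p * am t r q = (x - am t r p) * y + am t r p * (y - am t r q) by ring]
      exact add_mem (T.mul_mem_right _ hp) (T.mul_mem_left _ hq)
    have := sub_mem (dFun_spec t r j hxy) (add_mem (add_mem (T.mul_mem_right (dFun t r j y) hp)
      (T.mul_mem_left (am t r p) (dFun_spec t r j hq))) (add_mem (T.mul_mem_right (dFun t r j x) hq)
      (T.mul_mem_left (am t r q) (dFun_spec t r j hp))))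
    rw [pderiv_mul, map_add, map_mul, map_mul] at this
    convert this using 1
    ring

/-- The partial derivative. -/
noncomputable def dHat (j : Fin r) : Derivation A (Hat t r) (Hat t r) :=
  Derivation.mk'
    { toFun := dFun t r j
      map_add' := dFun_add t r j
      map_smul' := fun c x => by
        rw [RingHom.id_apply, Algebra.smul_def, dFun_mul, ← am_C, dFun_am, pderiv_C, map_zero, mul_zero, add_zero,
          Algebra.smul_def, am_C] }
    fun x y => by simpa [smul_eq_mul] using dFun_mul t r j x y

theorem dHat_am (j : Fin r) (p : MvPolynomial (Fin r) A) : dHat t r j (am t r p) = am t r (pderiv j p) :=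
  dFun_am t r j p

theorem dHat_pow_mul (j : Fin r) (n : ℕ) (z : Hat t r) :
    dHat t r j (algebraMap A (Hat t r) t ^ n * z) = algebraMap A (Hat t r) t ^ n * dHat t r j z := by
  rw [← map_pow, ← Algebra.smul_def, Derivation.map_smul, Algebra.smul_def]

end FormalCILib
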