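import Groth.Agent.CIFittLib.Basic
import Mathlib

/-!
# The first `Ext` of an injective presentation
-/

set_option autoImplicit false
set_option linter.style.haveILetI false
set_option maxSynthPendingDepth 3

universe u

open CategoryTheory

namespace FormalCILib

variable {R : Type u} [CommRing R] {c r : ℕ}

/-- `Ext¹` of an injective presentation is the cokernel of the transposed matrix. -/
theorem exists_extOneEquiv {Ω : Type u} [AddCommGroup Ω] [Module R Ω] (P : Matrix (Fin c) (Fin r) R)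
    (p : (Fin r → R) →ₗ[R] Ω) (hp : Function.Surjective p)
    (hex : Function.Exact P.vecMulLinear p) (hinj : Function.Injective P.vecMulLinear) :
    Nonempty (((Fin c → R) ⧸ LinearMap.range P.mulVecLin) ≃ₗ[R]
      Abelian.Ext.{u} (ModuleCat.of R Ω) (ModuleCat.of R R) 1) := by
  classical
  let i := P.vecMulLinear
  let S : ShortComplex (ModuleCat.{u} R) := ShortComplex.mk (ModuleCat.ofHom i) (ModuleCat.ofHom p) (by
    ext x; exact hex.apply_apply_eq_zero _)
  have hS : S.ShortExact :=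
    { exact := (ShortComplex.ShortExact.moduleCat_exact_iff_function_exact _).2 hex
      mono_f := (ModuleCat.mono_iff_injective _).2 hinj
      epi_g := (ModuleCat.epi_iff_surjective _).2 hp }
  haveI : Projective S.X₂ := (IsProjective.iff_projective (Fin r → R)).1 inferInstance
  let D : ((Fin c → R) →ₗ[R] R) →ₗ[R] Abelian.Ext.{u} S.X₃ (ModuleCat.of R R) 1 :=
    { toFun := fun φ => hS.extClass.comp (Abelian.Ext.mk₀ (ModuleCat.ofHom φ : S.X₁ ⟶ ModuleCat.of R R)) (add_zero 1)
      map_add' := fun φ ψ => by rw [ModuleCat.ofHom_add, Abelian.Ext.mk₀_add, Abelian.Ext.comp_add]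
      map_smul' := fun b φ => by
        rw [RingHom.id_apply, ← Abelian.Ext.comp_smul, ← Abelian.Ext.mk₀_smul]
        rfl }
  have hD : Function.Surjective D := fun x => by
    obtain ⟨x₁, hx₁⟩ := Abelian.Ext.contravariant_sequence_exact₃ hS _ x (Abelian.Ext.eq_zero_of_projective _)
      (n₀ := 0) (add_zero 1)
    obtain ⟨f, rfl⟩ := Abelian.Ext.mk₀_bijective _ _ |>.2 x₁
    exact ⟨f.hom, hx₁⟩
  have hDker : ∀ φ, D φ = 0 ↔ ∃ ψ : (Fin r → R) →ₗ[R] R, ψ ∘ₗ i = φ := by
    intro φ
    constructor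
    · intro h
      obtain ⟨x₂, hx₂⟩ := Abelian.Ext.contravariant_sequence_exact₁ hS _
        (Abelian.Ext.mk₀ (ModuleCat.ofHom φ : S.X₁ ⟶ ModuleCat.of R R)) (add_zero 1) h
      obtain ⟨g, rfl⟩ := Abelian.Ext.mk₀_bijective _ _ |>.2 x₂
      rw [Abelian.Ext.mk₀_comp_mk₀] at hx₂
      exact ⟨g.hom, congrArg ModuleCat.Hom.hom ((Abelian.Ext.mk₀_bijective _ _).1 hx₂)⟩
    · rintro ⟨ψ, rfl⟩
      show hS.extClass.comp (Abelian.Ext.mk₀ (S.f ≫ ModuleCat.ofHom ψ)) (add_zero 1) = 0
      rw [← Abelian.Ext.mk₀_comp_mk₀]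
      exact hS.extClass_comp_assoc _
  let δ : (Fin c → R) →ₗ[R] ((Fin c → R) →ₗ[R] R) := (LinearMap.lsum R (fun _ : Fin c => R) R).toLinearMap ∘ₗ
    LinearMap.pi fun j => (LinearMap.ringLmapEquivSelf R R R).symm.toLinearMap ∘ₗ LinearMap.proj j
  have hδ : ∀ (w : Fin c → R) l, δ w (Pi.single l 1) = w l := fun w l => by
    simp [δ, Pi.single_apply]
  let E : (Fin c → R) →ₗ[R] Abelian.Ext.{u} S.X₃ (ModuleCat.of R R) 1 := D ∘ₗ δ
  have hE : Function.Surjective E := fun x => by
    obtain ⟨φ, rfl⟩ := hD x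
    refine ⟨fun l => φ (Pi.single l 1), congrArg D (LinearMap.pi_ext' fun l => LinearMap.ext_ring ?_)⟩
    simpa using hδ (fun l => φ (Pi.single l 1)) l
  have hker : LinearMap.ker E = LinearMap.range P.mulVecLin := by
    ext w
    rw [LinearMap.mem_ker, LinearMap.comp_apply, hDker, LinearMap.mem_range]
    constructor
    · rintro ⟨ψ, hψ⟩
      refine ⟨fun j => ψ (Pi.single j 1), funext fun l => ?_⟩
      have := LinearMap.congr_fun hψ (Pi.single l 1)
      rw [hδ, LinearMap.comp_apply] at this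
      rw [← this, show i (Pi.single l 1) = P l from Matrix.single_one_vecMul l P]
      conv_rhs => rw [pi_eq_sum_univ' (P l)]
      simp [map_sum, Matrix.mulVec, dotProduct]
    · rintro ⟨y, rfl⟩
      refine ⟨∑ j, y j • LinearMap.proj j, LinearMap.pi_ext' fun l => LinearMap.ext_ring ?_⟩
      simp only [LinearMap.comp_apply, LinearMap.coe_single]
      rw [hδ, show i (Pi.single l 1) = P l from Matrix.single_one_vecMul l P]
      simp [Matrix.mulVec, dotProduct, mul_comm]
  exact ⟨(Submodule.quotEquivOfEq _ _ hker.symm).trans (E.quotKerEquivOfSurjective hE)⟩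

end FormalCILib
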