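import Groth.Agent.FormalCILib.Main
import Groth.Agent.FittLib.Props
import Mathlib

/-!
# Fitting ideals of completed differentials and of `T¹`
-/

set_option autoImplicit false
set_option linter.unusedSectionVars false
set_option linter.style.haveILetI false
set_option maxSynthPendingDepth 3

universe u

open MvPolynomial CategoryTheory FittLib

namespace FormalCILib

section killed

variable {R : Type u} [CommRing R] {c : ℕ} {M : Type*} [AddCommGroup M] [Module R M]

theorem pow_mem_ideal_zero (x : Fin c → M) (hx : Submodule.span R (Set.range x) = ⊤) (s : R)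
    (hs : ∀ m : M, s • m = 0) : s ^ c ∈ Fitt.ideal R M 0 := by
  classical
  rw [ideal_eq x hx, Nat.sub_zero]
  have h := FittLib.minor_mem (G := rel (R := R) x) (z := fun b => (Pi.single b s : Fin c → R)) (id : Fin c → Fin c)
    fun b => by simp [rel, Pi.single_apply, hs]
  convert h using 1
  rw [minor, show (Matrix.of fun a b => (Pi.single b s : Fin c → R) (id a)) = Matrix.diagonal fun _ => s from
    Matrix.ext fun a b => by simp [Matrix.diagonal_apply, Pi.single_apply], Matrix.det_diagonal]
  simp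

end killed

variable (k : Type u) [Field k] [IsAlgClosed k] {r c : ℕ}

theorem fitting (a : Fin c → Hat (PowerSeries.X (R := k)) r) (B : Type u) [CommRing B] [Algebra (PowerSeries k) B]
    [IsNoetherianRing B] [IsAdicComplete (Ideal.span {algebraMap (PowerSeries k) B PowerSeries.X}) B]
    [Module.Flat (PowerSeries k) B]
    (ψ : Hat (PowerSeries.X (R := k)) r →ₐ[PowerSeries k] B) (hψ : Function.Surjective ψ)
    (hker : RingHom.ker ψ.toRingHom = Ideal.span (Set.range a))
    (hreg : RingTheory.Sequence.IsRegular (Hat (PowerSeries.X (R := k)) r ⧸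
        Ideal.span {algebraMap (PowerSeries k) (Hat (PowerSeries.X (R := k)) r) PowerSeries.X ^ (0 + 1)})
      ((List.ofFn a).map (Ideal.Quotient.mk (Ideal.span
        {algebraMap (PowerSeries k) (Hat (PowerSeries.X (R := k)) r) PowerSeries.X ^ (0 + 1)}))))
    [IsReduced (B ⧸ Ideal.span {algebraMap (PowerSeries k) B PowerSeries.X})] :
    Fitt.ideal B (AdicCompletion (Ideal.span {algebraMap (PowerSeries k) B PowerSeries.X}) Ω[B⁄PowerSeries k]) (r - c) =
      Fitt.ideal B (Abelian.Ext.{u} (ModuleCat.of B (AdicCompletion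
        (Ideal.span {algebraMap (PowerSeries k) B PowerSeries.X}) Ω[B⁄PowerSeries k])) (ModuleCat.of B B) 1) 0 := by
  classical
  by_cases hB : Subsingleton B
  · exact Subsingleton.elim _ _
  rw [not_subsingleton_iff_nontrivial] at hB
  obtain ⟨hcr, -, hinj⟩ := core k a B ψ hψ hker hreg
  obtain ⟨q, hq, hex⟩ := presentation ψ hψ a hker
  have hcr' := hcr hB
  have hsum : ∀ w, q w = ∑ j, w j • q (Pi.single j 1) := fun w => by
    conv_lhs => rw [pi_eq_sum_univ' w]
    rw [map_sum]
    simp only [map_smul]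
  have hspan : Submodule.span B (Set.range fun j => q (Pi.single j 1)) = ⊤ := by
    rw [eq_top_iff]
    intro z _
    obtain ⟨w, rfl⟩ := hq z
    rw [hsum]
    exact Submodule.sum_mem _ fun j _ => Submodule.smul_mem _ _ (Submodule.subset_span ⟨j, rfl⟩)
  have hrel : ∀ w, ∑ j, w j • q (Pi.single j 1) = 0 ↔ w ∈ Submodule.span B (Set.range fun i => jac a ψ i) := by
    intro w
    rw [← hsum, hex w, Submodule.mem_span_range_iff_exists_fun, Set.mem_range]
    constructor
    · rintro ⟨y, rfl⟩
      exact ⟨y, _root_.funext fun j => by simp [Matrix.vecMul, dotProduct, Finset.sum_apply]⟩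
    · rintro ⟨y, rfl⟩
      exact ⟨y, _root_.funext fun j => by simp [Matrix.vecMul, dotProduct, Finset.sum_apply]⟩
  rw [Groth.Agent.CIFittLib.ideal_eq_of_rel (jac a ψ) _ hspan hrel (r - c), show r - (r - c) = c by omega,
    Groth.Agent.CIFittLib.ideal_ext_one (jac a ψ) q hq hex hinj, Groth.Agent.CIFittLib.J_transpose]

theorem ext_generators (a : Fin c → Hat (PowerSeries.X (R := k)) r) (B : Type u) [CommRing B] [Algebra (PowerSeries k) B]
    [IsNoetherianRing B] [IsAdicComplete (Ideal.span {algebraMap (PowerSeries k) B PowerSeries.X}) B]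
    [Module.Flat (PowerSeries k) B]
    (ψ : Hat (PowerSeries.X (R := k)) r →ₐ[PowerSeries k] B) (hψ : Function.Surjective ψ)
    (hker : RingHom.ker ψ.toRingHom = Ideal.span (Set.range a))
    (hreg : RingTheory.Sequence.IsRegular (Hat (PowerSeries.X (R := k)) r ⧸
        Ideal.span {algebraMap (PowerSeries k) (Hat (PowerSeries.X (R := k)) r) PowerSeries.X ^ (0 + 1)})
      ((List.ofFn a).map (Ideal.Quotient.mk (Ideal.span
        {algebraMap (PowerSeries k) (Hat (PowerSeries.X (R := k)) r) PowerSeries.X ^ (0 + 1)}))))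
    [IsReduced (B ⧸ Ideal.span {algebraMap (PowerSeries k) B PowerSeries.X})] :
    ∃ x : Fin c → Abelian.Ext.{u} (ModuleCat.of B (AdicCompletion
        (Ideal.span {algebraMap (PowerSeries k) B PowerSeries.X}) Ω[B⁄PowerSeries k])) (ModuleCat.of B B) 1,
      Submodule.span B (Set.range x) = ⊤ := by
  classical
  obtain ⟨-, -, hinj⟩ := core k a B ψ hψ hker hreg
  obtain ⟨q, hq, hex⟩ := presentation ψ hψ a hker
  obtain ⟨e⟩ := exists_extOneEquiv (jac a ψ) q hq hex hinj
  let g : (Fin c → B) →ₗ[B] _ := e.toLinearMap.comp (LinearMap.range (jac a ψ).mulVecLin).mkQ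
  refine ⟨fun i => g (Pi.single i 1), ?_⟩
  have hg : Function.Surjective g := e.surjective.comp (Submodule.mkQ_surjective _)
  have := congrArg (Submodule.map g) (Pi.basisFun B (Fin c)).span_eq
  rw [Submodule.map_span, Submodule.map_top, LinearMap.range_eq_top.2 hg, ← Set.range_comp] at this
  rw [← this]
  congr 2
  exact _root_.funext fun i => by simp

theorem pow_iff (a : Fin c → Hat (PowerSeries.X (R := k)) r) (B : Type u) [CommRing B] [Algebra (PowerSeries k) B]
    [IsNoetherianRing B] [IsAdicComplete (Ideal.span {algebraMap (PowerSeries k) B PowerSeries.X}) B]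
    [Module.Flat (PowerSeries k) B]
    (ψ : Hat (PowerSeries.X (R := k)) r →ₐ[PowerSeries k] B) (hψ : Function.Surjective ψ)
    (hker : RingHom.ker ψ.toRingHom = Ideal.span (Set.range a))
    (hreg : RingTheory.Sequence.IsRegular (Hat (PowerSeries.X (R := k)) r ⧸
        Ideal.span {algebraMap (PowerSeries k) (Hat (PowerSeries.X (R := k)) r) PowerSeries.X ^ (0 + 1)})
      ((List.ofFn a).map (Ideal.Quotient.mk (Ideal.span
        {algebraMap (PowerSeries k) (Hat (PowerSeries.X (R := k)) r) PowerSeries.X ^ (0 + 1)}))))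
    [IsReduced (B ⧸ Ideal.span {algebraMap (PowerSeries k) B PowerSeries.X})] (s : B) :
    (∃ κ : ℕ, s ^ κ ∈ Fitt.ideal B
        (AdicCompletion (Ideal.span {algebraMap (PowerSeries k) B PowerSeries.X}) Ω[B⁄PowerSeries k]) (r - c)) ↔
      ∃ m : ℕ, ∀ x : Abelian.Ext.{u} (ModuleCat.of B (AdicCompletion
          (Ideal.span {algebraMap (PowerSeries k) B PowerSeries.X}) Ω[B⁄PowerSeries k])) (ModuleCat.of B B) 1,
        (s ^ m) • x = 0 := by
  rw [fitting k a B ψ hψ hker hreg]
  obtain ⟨x, hx⟩ := ext_generators k a B ψ hψ hker hreg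
  haveI : Module.Finite B (Abelian.Ext.{u} (ModuleCat.of B (AdicCompletion
      (Ideal.span {algebraMap (PowerSeries k) B PowerSeries.X}) Ω[B⁄PowerSeries k])) (ModuleCat.of B B) 1) :=
    ⟨Submodule.fg_def.2 ⟨Set.range x, Set.finite_range x, hx⟩⟩
  constructor
  · rintro ⟨κ, hκ⟩
    exact ⟨κ, fun y => Module.mem_annihilator.1 (ideal_le_annihilator hκ) y⟩
  · rintro ⟨m, hm⟩
    exact ⟨m * c, by rw [pow_mul]; exact pow_mem_ideal_zero x hx _ hm⟩

end FormalCILib
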