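import Groth.Agent.FormalCILib.Main
import Mathlib

/-!
# `T¹` at finite level
-/

set_option autoImplicit false
set_option linter.unusedSectionVars false
set_option linter.style.haveILetI false
set_option maxSynthPendingDepth 3

universe u

open MvPolynomial CategoryTheory
open scoped TensorProduct

namespace FormalCILib

section coker

variable {R : Type u} [CommRing R] {c r : ℕ} (I : Ideal R) (P : Matrix (Fin c) (Fin r) R)

/-- Base change of the cokernel of a matrix. -/
theorem exists_cokerEquiv :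
    Nonempty ((R ⧸ I) ⊗[R] ((Fin c → R) ⧸ LinearMap.range P.mulVecLin) ≃ₗ[R ⧸ I]
      ((Fin c → R ⧸ I) ⧸ LinearMap.range (P.map (Ideal.Quotient.mk I)).mulVecLin)) := by
  classical
  set Pn := P.map (Ideal.Quotient.mk I) with hPn
  let red : (Fin c → R) →ₗ[R] (Fin c → R ⧸ I) := LinearMap.pi fun i => (Ideal.Quotient.mkₐ R I).toLinearMap ∘ₗ LinearMap.proj i
  have hred : ∀ y, red (P.mulVec y) = Pn.mulVec fun j => Ideal.Quotient.mk I (y j) := fun y => by
    funext i
    simp [red, hPn, Matrix.mulVec, dotProduct, map_sum]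
  let F0 : ((Fin c → R) ⧸ LinearMap.range P.mulVecLin) →ₗ[R] ((Fin c → R ⧸ I) ⧸ LinearMap.range Pn.mulVecLin) :=
    (LinearMap.range P.mulVecLin).liftQ (((LinearMap.range Pn.mulVecLin).mkQ.restrictScalars R).comp red) (by
      rintro _ ⟨y, rfl⟩
      rw [LinearMap.mem_ker, LinearMap.comp_apply, LinearMap.restrictScalars_apply, Submodule.mkQ_apply,
        Submodule.Quotient.mk_eq_zero, Matrix.mulVecLin_apply, hred]
      exact ⟨_, rfl⟩)
  let F := F0.liftBaseChange (R ⧸ I)
  let G0 : (Fin c → R ⧸ I) →ₗ[R ⧸ I] (R ⧸ I) ⊗[R] ((Fin c → R) ⧸ LinearMap.range P.mulVecLin) :=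
    Fintype.linearCombination (R ⧸ I) fun i => (1 : R ⧸ I) ⊗ₜ[R] Submodule.Quotient.mk (Pi.single i 1)
  have hG0 : ∀ y : Fin c → R, G0 (red y) = (1 : R ⧸ I) ⊗ₜ[R] Submodule.Quotient.mk y := fun y => by
    conv_rhs => rw [pi_eq_sum_univ' y]
    simp only [G0, Fintype.linearCombination_apply, ← Submodule.mkQ_apply, map_sum, map_smul, TensorProduct.tmul_sum,
      TensorProduct.tmul_smul]
    refine Finset.sum_congr rfl fun i _ => ?_
    exact algebraMap_smul (R ⧸ I) (y i) ((1 : R ⧸ I) ⊗ₜ[R] (LinearMap.range P.mulVecLin).mkQ (Pi.single i 1))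
  let G : ((Fin c → R ⧸ I) ⧸ LinearMap.range Pn.mulVecLin) →ₗ[R ⧸ I] _ :=
    (LinearMap.range Pn.mulVecLin).liftQ G0 (by
      rintro _ ⟨y, rfl⟩
      choose z hz using fun j => Ideal.Quotient.mk_surjective (y j)
      rw [LinearMap.mem_ker, Matrix.mulVecLin_apply, show y = fun j => Ideal.Quotient.mk I (z j) from funext fun j => (hz j).symm,
        ← hred, hG0, show (Submodule.Quotient.mk (P.mulVec z) : (Fin c → R) ⧸ LinearMap.range P.mulVecLin) = 0 from
          (Submodule.Quotient.mk_eq_zero _).2 ⟨z, rfl⟩, TensorProduct.tmul_zero])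
  refine ⟨LinearEquiv.ofLinear F G ?_ ?_⟩
  · refine Submodule.linearMap_qext _ (LinearMap.pi_ext' fun i => LinearMap.ext_ring ?_)
    show F (G0 (Pi.single i 1)) = Submodule.Quotient.mk (Pi.single i 1)
    have : (Pi.single i 1 : Fin c → R ⧸ I) = red (Pi.single i 1) := funext fun j => by
      simp [red, Pi.single_apply, apply_ite (Ideal.Quotient.mk I)]
    rw [this, hG0, LinearMap.liftBaseChange_tmul, one_smul]
    rfl
  · refine TensorProduct.AlgebraTensorModule.curry_injective (LinearMap.ext_ring (LinearMap.ext fun z => ?_))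
    obtain ⟨y, rfl⟩ := Submodule.Quotient.mk_surjective _ z
    show G (F ((1 : R ⧸ I) ⊗ₜ[R] Submodule.Quotient.mk y)) = (1 : R ⧸ I) ⊗ₜ[R] Submodule.Quotient.mk y
    rw [LinearMap.liftBaseChange_tmul, one_smul]
    exact hG0 y

end coker

variable (k : Type u) [Field k] [IsAlgClosed k] {r c : ℕ}

theorem level (a : Fin c → Hat (PowerSeries.X (R := k)) r) (B : Type u) [CommRing B] [Algebra (PowerSeries k) B]
    [IsNoetherianRing B] [IsAdicComplete (Ideal.span {algebraMap (PowerSeries k) B PowerSeries.X}) B]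
    [Module.Flat (PowerSeries k) B]
    (ψ : Hat (PowerSeries.X (R := k)) r →ₐ[PowerSeries k] B) (hψ : Function.Surjective ψ)
    (hker : RingHom.ker ψ.toRingHom = Ideal.span (Set.range a))
    (hreg : RingTheory.Sequence.IsRegular (Hat (PowerSeries.X (R := k)) r ⧸
        Ideal.span {algebraMap (PowerSeries k) (Hat (PowerSeries.X (R := k)) r) PowerSeries.X ^ (0 + 1)})
      ((List.ofFn a).map (Ideal.Quotient.mk (Ideal.span
        {algebraMap (PowerSeries k) (Hat (PowerSeries.X (R := k)) r) PowerSeries.X ^ (0 + 1)}))))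
    [IsReduced (B ⧸ Ideal.span {algebraMap (PowerSeries k) B PowerSeries.X})] (n : ℕ) :
    Nonempty (TensorProduct B (B ⧸ Ideal.span {algebraMap (PowerSeries k) B PowerSeries.X ^ (n + 1)})
        (Abelian.Ext.{u} (ModuleCat.of B (AdicCompletion
          (Ideal.span {algebraMap (PowerSeries k) B PowerSeries.X}) (KaehlerDifferential (PowerSeries k) B)))
          (ModuleCat.of B B) 1) ≃ₗ[B ⧸ Ideal.span {algebraMap (PowerSeries k) B PowerSeries.X ^ (n + 1)}]
      Abelian.Ext.{u}
        (ModuleCat.of (B ⧸ Ideal.span {algebraMap (PowerSeries k) B PowerSeries.X ^ (n + 1)})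
          (KaehlerDifferential (PowerSeries k) (B ⧸ Ideal.span {algebraMap (PowerSeries k) B PowerSeries.X ^ (n + 1)})))
        (ModuleCat.of (B ⧸ Ideal.span {algebraMap (PowerSeries k) B PowerSeries.X ^ (n + 1)})
          (B ⧸ Ideal.span {algebraMap (PowerSeries k) B PowerSeries.X ^ (n + 1)})) 1) := by
  classical
  obtain ⟨-, hdiv, hinj⟩ := core k a B ψ hψ hker hreg
  obtain ⟨q, hq, hex⟩ := presentation ψ hψ a hker
  obtain ⟨E⟩ := exists_extOneEquiv (jac a ψ) q hq hex hinj
  set I := Ideal.span {algebraMap (PowerSeries k) B PowerSeries.X ^ (n + 1)} with hI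
  set Pn := (jac a ψ).map (Ideal.Quotient.mk I) with hPn
  -- the presentation at level `n`
  let φn : MvPolynomial (Fin r) (PowerSeries k) →ₐ[PowerSeries k] B ⧸ I :=
    (Ideal.Quotient.mkₐ (PowerSeries k) I).comp (ψ.comp
      { am (PowerSeries.X (R := k)) r with commutes' := fun x => am_C _ r x })
  have hφn : ∀ p, φn p = Ideal.Quotient.mk I (ψ (am (PowerSeries.X (R := k)) r p)) := fun p => rfl
  have hτ : Ideal.Quotient.mk I (algebraMap (PowerSeries k) B PowerSeries.X ^ (n + 1)) = 0 :=
    Ideal.Quotient.eq_zero_iff_mem.2 (Ideal.mem_span_singleton_self _)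
  have hmk : ∀ z, Ideal.Quotient.mk I (ψ (algebraMap (PowerSeries k) (Hat (PowerSeries.X (R := k)) r) PowerSeries.X ^ (n + 1) * z)) = 0 :=
    fun z => by rw [map_mul, map_mul, map_pow, AlgHom.commutes, hτ, zero_mul]
  have hφsur : Function.Surjective φn := fun y => by
    obtain ⟨b, rfl⟩ := Ideal.Quotient.mk_surjective y
    obtain ⟨g, rfl⟩ := hψ b
    obtain ⟨p, z, rfl⟩ := exists_approx (PowerSeries.X (R := k)) r (n + 1) g
    exact ⟨p, by rw [hφn, map_add, map_add, hmk, add_zero]⟩
  choose α hα using fun i => approx_mem (PowerSeries.X (R := k)) r (n + 1) (a i)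
  have hmkα : ∀ {x y}, x - y ∈ Ideal.span {algebraMap (PowerSeries k) (Hat (PowerSeries.X (R := k)) r) PowerSeries.X ^ (n + 1)} →
      Ideal.Quotient.mk I (ψ x) = Ideal.Quotient.mk I (ψ y) := fun {x y} h => by
    obtain ⟨z, hz⟩ := Ideal.mem_span_singleton.1 h
    rw [eq_add_of_sub_eq hz, map_add, map_add, hmk, zero_add]
  let f : Fin (c + 1) → MvPolynomial (Fin r) (PowerSeries k) := Fin.cons (C (PowerSeries.X (R := k)) ^ (n + 1)) α
  have hf0 : φn (C (PowerSeries.X (R := k)) ^ (n + 1)) = 0 := by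
    rw [hφn, map_pow, am_C, map_pow, AlgHom.commutes, hτ]
  have hfi : ∀ i, φn (α i) = 0 := fun i => by
    rw [hφn, ← hmkα (hα i), show ψ (a i) = 0 from RingHom.mem_ker.1 (hker.ge (Ideal.subset_span ⟨i, rfl⟩)), map_zero]
  have hkern : RingHom.ker φn.toRingHom = Ideal.span (Set.range f) := by
    refine le_antisymm (fun p hp => ?_) (Ideal.span_le.2 ?_)
    · have hp' : Ideal.Quotient.mk I (ψ (am (PowerSeries.X (R := k)) r p)) = 0 := hp
      rw [Ideal.Quotient.eq_zero_iff_mem, Ideal.mem_span_singleton] at hp'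
      obtain ⟨b, hb⟩ := hp'
      obtain ⟨h, rfl⟩ := hψ b
      set T := Ideal.span {algebraMap (PowerSeries k) (Hat (PowerSeries.X (R := k)) r) PowerSeries.X ^ (n + 1)}
      have h1 : am (PowerSeries.X (R := k)) r p - algebraMap (PowerSeries k) _ PowerSeries.X ^ (n + 1) * h ∈
          Ideal.span (Set.range a) := by
        rw [← hker, RingHom.mem_ker]
        show ψ _ = 0
        rw [map_sub, map_mul, map_pow, AlgHom.commutes, hb, sub_self]
      obtain ⟨g, hg⟩ := Ideal.mem_span_range_iff_exists_fun.1 h1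
      choose g' hg' using fun i => approx_mem (PowerSeries.X (R := k)) r (n + 1) (g i)
      have h2 : am (PowerSeries.X (R := k)) r (p - ∑ i, g' i * α i) ∈ T := by
        have : am (PowerSeries.X (R := k)) r (p - ∑ i, g' i * α i) =
            algebraMap (PowerSeries k) _ PowerSeries.X ^ (n + 1) * h +
              ∑ i, ((g i - am _ r (g' i)) * a i + am _ r (g' i) * (a i - am _ r (α i))) := by
          rw [map_sub, map_sum]
          simp only [map_mul, sub_mul, mul_sub, Finset.sum_add_distrib, Finset.sum_sub_distrib, hg]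
          ring
        rw [this]
        exact add_mem (T.mul_mem_right _ (Ideal.mem_span_singleton_self _))
          (sum_mem fun i _ => add_mem (T.mul_mem_right _ (hg' i)) (T.mul_mem_left _ (hα i)))
      rw [am_mem_iff] at h2
      obtain ⟨u, hu⟩ := h2
      rw [sub_eq_iff_eq_add] at hu
      rw [hu]
      exact add_mem (Ideal.mul_mem_right _ _ (Ideal.subset_span ⟨0, rfl⟩))
        (sum_mem fun i _ => Ideal.mul_mem_left _ _ (Ideal.subset_span ⟨i.succ, by simp [f]⟩))
    · rintro _ ⟨i, rfl⟩
      refine Fin.cases ?_ (fun i => ?_) i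
      · exact hf0
      · simpa [f] using hfi i
  obtain ⟨e, he, herel⟩ := Groth.Agent.CIFittLib.kaehler_rel hφsur hkern
  have hrow : ∀ i, (fun j => φn (pderiv j (α i))) = Pn i := fun i => _root_.funext fun j => by
    rw [hφn, ← hmkα (dFun_spec (PowerSeries.X (R := k)) r j (hα i))]
    rfl
  have hspan : Submodule.span (B ⧸ I) (Set.range fun i => fun j => φn (pderiv j (f i))) =
      Submodule.span (B ⧸ I) (Set.range fun i => Pn i) := by
    refine le_antisymm (Submodule.span_le.2 ?_) (Submodule.span_le.2 ?_)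
    · rintro _ ⟨i, rfl⟩
      refine Fin.cases ?_ (fun i => ?_) i
      · show (fun j => φn (pderiv j (f 0))) ∈ Submodule.span (B ⧸ I) (Set.range fun i => Pn i)
        rw [show (fun j => φn (pderiv j (f 0))) = 0 from _root_.funext fun j => by
          show φn (pderiv j (C (PowerSeries.X (R := k)) ^ (n + 1))) = 0
          rw [← map_pow, pderiv_C, map_zero]]
        exact Submodule.zero_mem _
      · refine Submodule.subset_span ⟨i, ?_⟩
        show Pn i = _
        rw [← hrow]; simp [f]
    · rintro _ ⟨i, rfl⟩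
      refine Submodule.subset_span ⟨i.succ, ?_⟩
      show _ = Pn i
      rw [← hrow]; simp [f]
  rw [hspan] at herel
  let qn := Fintype.linearCombination (B ⧸ I) e
  have hexn : Function.Exact Pn.vecMulLinear qn := fun w => by
    rw [show qn w = ∑ j, w j • e j from Fintype.linearCombination_apply ..]
    refine (herel w).trans ((Submodule.mem_span_range_iff_exists_fun _).trans ⟨?_, ?_⟩)
    · rintro ⟨y, rfl⟩
      exact ⟨y, _root_.funext fun j => by simp [Matrix.vecMul, dotProduct, Finset.sum_apply]⟩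
    · rintro ⟨y, rfl⟩
      exact ⟨y, _root_.funext fun j => by simp [Matrix.vecMul, dotProduct, Finset.sum_apply]⟩
  have hinjn : Function.Injective Pn.vecMulLinear := (injective_iff_map_eq_zero _).2 fun v hv => by
    choose v' hv' using fun i => Ideal.Quotient.mk_surjective (v i)
    funext i
    rw [← hv', Pi.zero_apply, Ideal.Quotient.eq_zero_iff_mem]
    refine hdiv v' (n + 1) (fun j => ?_) i
    rw [← hI, ← Ideal.Quotient.eq_zero_iff_mem]
    have h := congrFun hv j
    simp only [Matrix.vecMulLinear_apply, Matrix.vecMul, dotProduct, Pi.zero_apply] at h ⊢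
    rw [map_sum, ← h]
    exact Finset.sum_congr rfl fun i _ => by rw [map_mul, hv']; rfl
  obtain ⟨En⟩ := exists_extOneEquiv Pn qn (FittLib.linearCombination_surjective he) hexn hinjn
  obtain ⟨C0⟩ := exists_cokerEquiv I (jac a ψ)
  exact ⟨(TensorProduct.AlgebraTensorModule.congr (LinearEquiv.refl (B ⧸ I) (B ⧸ I)) E.symm).trans (C0.trans En)⟩

end FormalCILib
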