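import Groth.Agent.FormalCILib.Pres
import Groth.Agent.FormalCILib.Ext
import Mathlib

/-!
# Formal families of reduced complete intersections over a power series ring
-/

set_option autoImplicit false
set_option linter.unusedSectionVars false
set_option linter.style.haveILetI false
set_option maxSynthPendingDepth 3

universe u

open MvPolynomial

namespace FormalCILib

variable {k : Type u} [Field k] {r c : ℕ}

/-- Reduction modulo the variable of the base. -/
theorem exists_mod {A S : Type u} [CommRing A] [CommRing S] (t : A) (r : ℕ) (f : A →+* S) (hf : Function.Surjective f)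
    (hker : ∀ x, f x = 0 ↔ t ∣ x) :
    ∃ θ : Hat t r →+* MvPolynomial (Fin r) S, Function.Surjective θ ∧
      (∀ p, θ (am t r p) = MvPolynomial.map f p) ∧
      RingHom.ker θ = Ideal.span {algebraMap A (Hat t r) t} := by
  have hK : ∀ p ∈ (Ideal.span {C (σ := Fin r) t}) ^ 1, MvPolynomial.map f p = 0 := by
    intro p hp
    rw [pow_one, Ideal.mem_span_singleton] at hp
    obtain ⟨q, rfl⟩ := hp
    rw [map_mul, map_C, (hker t).2 dvd_rfl, map_zero, zero_mul]
  let θ : Hat t r →+* MvPolynomial (Fin r) S :=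
    (Ideal.Quotient.lift ((Ideal.span {C (σ := Fin r) t}) ^ 1) (MvPolynomial.map f) hK).comp
      (AdicCompletion.evalₐ (Ideal.span {C (σ := Fin r) t}) 1).toRingHom
  have hθ : ∀ p, θ (am t r p) = MvPolynomial.map f p := fun p => by
    show Ideal.Quotient.lift ((Ideal.span {C (σ := Fin r) t}) ^ 1) _ hK (AdicCompletion.evalₐ
      (Ideal.span {C (σ := Fin r) t}) 1 (AdicCompletion.of (Ideal.span {C (σ := Fin r) t}) _ p)) = _
    rw [AdicCompletion.evalₐ_of, Ideal.Quotient.lift_mk]
  have hτ : θ (algebraMap A (Hat t r) t) = 0 := by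
    rw [← am_C, hθ, map_C, (hker t).2 dvd_rfl, map_zero]
  refine ⟨θ, fun y => ?_, hθ, le_antisymm (fun g hg => ?_) ?_⟩
  · obtain ⟨p, rfl⟩ := MvPolynomial.map_surjective f hf y
    exact ⟨am t r p, hθ p⟩
  · obtain ⟨p, z, rfl⟩ := exists_approx t r 1 g
    rw [pow_one] at hg ⊢
    rw [RingHom.mem_ker, map_add, map_mul, hτ, zero_mul, add_zero, hθ] at hg
    have hd : C t ∣ p := (C_dvd_iff_dvd_coeff _ _).2 fun i => by
      rw [← hker]
      simpa [coeff_map] using congrArg (coeff i) hg
    refine add_mem ?_ (Ideal.mul_mem_right _ _ (Ideal.mem_span_singleton_self _))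
    have := (am_mem_iff t r 1 p).2 (by rwa [pow_one])
    rwa [pow_one] at this
  · rw [Ideal.span_le, Set.singleton_subset_iff]
    exact hτ

local notation "tX" => (PowerSeries.X : PowerSeries k)

variable (k) in
/-- The setting. -/
theorem core [IsAlgClosed k] (a : Fin c → Hat (PowerSeries.X (R := k)) r) (B : Type u) [CommRing B]
    [Algebra (PowerSeries k) B] [IsNoetherianRing B]
    [IsAdicComplete (Ideal.span {algebraMap (PowerSeries k) B PowerSeries.X}) B] [Module.Flat (PowerSeries k) B]
    (ψ : Hat (PowerSeries.X (R := k)) r →ₐ[PowerSeries k] B) (hψ : Function.Surjective ψ)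
    (hker : RingHom.ker ψ.toRingHom = Ideal.span (Set.range a))
    (hreg : RingTheory.Sequence.IsRegular (Hat (PowerSeries.X (R := k)) r ⧸
        Ideal.span {algebraMap (PowerSeries k) (Hat (PowerSeries.X (R := k)) r) PowerSeries.X ^ (0 + 1)})
      ((List.ofFn a).map (Ideal.Quotient.mk (Ideal.span
        {algebraMap (PowerSeries k) (Hat (PowerSeries.X (R := k)) r) PowerSeries.X ^ (0 + 1)}))))
    [IsReduced (B ⧸ Ideal.span {algebraMap (PowerSeries k) B PowerSeries.X})] :
    (Nontrivial B → c ≤ r) ∧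
      (∀ (v : Fin c → B) (n : ℕ), (∀ j, (Matrix.vecMul v (jac a ψ)) j ∈
          Ideal.span {algebraMap (PowerSeries k) B PowerSeries.X ^ n}) →
        ∀ i, v i ∈ Ideal.span {algebraMap (PowerSeries k) B PowerSeries.X ^ n}) ∧
      Function.Injective (jac a ψ).vecMulLinear := by
  classical
  let τ : B := algebraMap (PowerSeries k) B tX
  let I := Ideal.span {τ}
  let B0 := B ⧸ I
  obtain ⟨θ, hθsur, hθ, hθker⟩ := exists_mod tX r PowerSeries.constantCoeff
    (fun a => ⟨PowerSeries.C a, PowerSeries.constantCoeff_C a⟩) fun x => PowerSeries.X_dvd_iff.symm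
  letI : Algebra k B0 := ((Ideal.Quotient.mk I).comp ((algebraMap (PowerSeries k) B).comp PowerSeries.C)).toAlgebra
  let φ0 : MvPolynomial (Fin r) k →ₐ[k] B0 := aeval fun j => Ideal.Quotient.mk I (ψ (am tX r (X j)))
  have hI : Ideal.Quotient.mk I τ = 0 := Ideal.Quotient.eq_zero_iff_mem.2 (Ideal.mem_span_singleton_self _)
  have hφp : ∀ p, φ0 (MvPolynomial.map PowerSeries.constantCoeff p) = Ideal.Quotient.mk I (ψ (am tX r p)) := by
    intro p
    induction p using MvPolynomial.induction_on with
    | C b =>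
      rw [map_C, am_C, AlgHom.commutes, show φ0 (C (PowerSeries.constantCoeff b)) = algebraMap k B0 _ from φ0.commutes _]
      conv_rhs => rw [PowerSeries.eq_shift_mul_X_add_const b, map_add, map_mul, map_add, map_mul, hI, mul_zero, zero_add]
      rfl
    | add p q hp hq => simp only [map_add, hp, hq]
    | mul_X p j hp => simp only [map_mul, hp, map_X, φ0, aeval_X]
  have hφθ : ∀ g, φ0 (θ g) = Ideal.Quotient.mk I (ψ g) := fun g => by
    obtain ⟨p, z, rfl⟩ := exists_approx tX r 1 g
    have h0 : θ (algebraMap (PowerSeries k) (Hat tX r) tX) = 0 :=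
      RingHom.mem_ker.1 (hθker.ge (Ideal.mem_span_singleton_self _))
    simp only [pow_one, map_add, map_mul, h0, zero_mul, AlgHom.commutes, hθ, hφp, map_zero]
    rw [show Ideal.Quotient.mk I (algebraMap (PowerSeries k) B tX) = 0 from hI, zero_mul]
  have hφ0 : Function.Surjective φ0 := fun y => by
    obtain ⟨b, rfl⟩ := Ideal.Quotient.mk_surjective y
    obtain ⟨g, rfl⟩ := hψ b
    exact ⟨θ g, hφθ g⟩
  let a0 : Fin c → MvPolynomial (Fin r) k := fun i => θ (a i)
  have hker0 : RingHom.ker φ0.toRingHom = Ideal.span (Set.range a0) := by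
    refine le_antisymm (fun y hy => ?_) (Ideal.span_le.2 ?_)
    · obtain ⟨g, rfl⟩ := hθsur y
      have hy' : φ0 (θ g) = 0 := hy
      rw [hφθ, Ideal.Quotient.eq_zero_iff_mem, Ideal.mem_span_singleton] at hy'
      obtain ⟨b, hb⟩ := hy'
      obtain ⟨h, rfl⟩ := hψ b
      have h1 : g - algebraMap (PowerSeries k) (Hat tX r) tX * h ∈ Ideal.span (Set.range a) := by
        rw [← hker, RingHom.mem_ker]
        show ψ _ = 0
        rw [map_sub, map_mul, AlgHom.commutes, hb, sub_self]
      have h2 := Ideal.mem_map_of_mem θ h1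
      rw [Ideal.map_span, map_sub, map_mul, show θ (algebraMap (PowerSeries k) (Hat tX r) tX) = 0 from
        RingHom.mem_ker.1 (hθker.ge (Ideal.mem_span_singleton_self _)), zero_mul, sub_zero, ← Set.range_comp] at h2
      exact h2
    · rintro _ ⟨i, rfl⟩
      show φ0 (θ (a i)) = 0
      rw [hφθ, show ψ (a i) = 0 from RingHom.mem_ker.1 (hker.ge (Ideal.subset_span ⟨i, rfl⟩)), map_zero]
  have ha0 : RingTheory.Sequence.IsRegular (MvPolynomial (Fin r) k) (List.ofFn a0) := by
    let e := (Ideal.quotEquivOfEq (show Ideal.span {algebraMap (PowerSeries k) (Hat tX r) tX ^ (0 + 1)} = RingHom.ker θ by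
      rw [zero_add, pow_one, hθker])).trans (RingHom.quotientKerEquivOfSurjective hθsur)
    have he : ∀ g, e (Ideal.Quotient.mk _ g) = θ g := fun g => rfl
    refine (AddEquiv.isRegular_congr (e := e.toAddEquiv) ?_).1 hreg
    rw [List.forall₂_map_left_iff, List.forall₂_iff_get]
    refine ⟨by simp, fun i h1 h2 x => ?_⟩
    simp only [List.get_eq_getElem, List.getElem_ofFn, smul_eq_mul, RingEquiv.toAddEquiv_eq_coe,
      RingEquiv.coe_toAddEquiv, map_mul, he, Function.comp_apply, a0]
  let P0 : Matrix (Fin c) (Fin r) B0 := Matrix.of fun i j => φ0 (pderiv j (a0 i))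
  have hP0 : ∀ i j, P0 i j = Ideal.Quotient.mk I (jac a ψ i j) := by
    intro i j
    show φ0 (pderiv j (θ (a i))) = Ideal.Quotient.mk I (ψ (dHat tX r j (a i)))
    rw [← hφθ]
    congr 1
    obtain ⟨p, z, hp⟩ := exists_approx tX r 1 (a i)
    have h0 : θ (algebraMap (PowerSeries k) (Hat tX r) tX) = 0 :=
      RingHom.mem_ker.1 (hθker.ge (Ideal.mem_span_singleton_self _))
    rw [hp, pow_one]
    have hz : dHat tX r j (algebraMap (PowerSeries k) (Hat tX r) tX * z) =
        algebraMap (PowerSeries k) (Hat tX r) tX * dHat tX r j z := by simpa using dHat_pow_mul tX r j 1 z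
    simp only [map_add, dHat_am, hz, map_mul, h0, zero_mul, add_zero, map_zero, hθ, pderiv_map]
  obtain ⟨e, hespan, herel⟩ := Groth.Agent.CIFittLib.kaehler_rel hφ0 hker0
  have hfit := Groth.Agent.CIFittLib.ideal_eq_of_rel P0 e hespan herel (r - c)
  have hmin := fun P hP => Groth.Agent.CIFittLib.not_fitt_le φ0 hφ0 a0 ha0 hker0 P hP
  have hcr : Nontrivial B → c ≤ r := fun _ => by
    haveI : Nontrivial B0 := Ideal.Quotient.nontrivial_iff.2 fun h => by
      have h1 := (IsAdicComplete.le_jacobson_bot I) (h ▸ Submodule.mem_top : (1 : B) ∈ I)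
      rw [Ideal.mem_jacobson_bot] at h1
      simpa using h1 (-1)
    obtain ⟨q, hq⟩ := Ideal.nonempty_minimalPrimes (I := (⊥ : Ideal B0)) bot_ne_top
    exact (hmin q hq).1
  have hinj0 : Function.Injective P0.vecMulLinear :=
    Groth.Agent.CIFittLib.injective_vecMul P0 fun P hP h => by
      have := hmin P hP
      rw [show r - (r - c) = c by have := this.1; omega] at hfit
      exact this.2 (hfit.le.trans h)
  have hreg' : ∀ x : B, τ * x = 0 → x = 0 := fun x hx => by
    have hr : IsSMulRegular B (algebraMap (PowerSeries k) B tX) :=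
      IsSMulRegular.of_flat (fun x y hxy => mul_left_cancel₀ PowerSeries.X_ne_zero hxy)
    exact hr (show τ • x = τ • (0 : B) by rw [smul_eq_mul, hx, smul_zero])
  have hdiv : ∀ (n : ℕ) (v : Fin c → B), (∀ j, Matrix.vecMul v (jac a ψ) j ∈ Ideal.span {τ ^ n}) →
      ∀ i, v i ∈ Ideal.span {τ ^ n} := by
    intro n
    induction n with
    | zero => intro v _ i; simp
    | succ n ih =>
      intro v hv i
      have h0 : (fun i => Ideal.Quotient.mk I (v i)) = 0 := hinj0 <| _root_.funext fun j => by
        have : Ideal.Quotient.mk I (Matrix.vecMul v (jac a ψ) j) = 0 := Ideal.Quotient.eq_zero_iff_mem.2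
          (Ideal.span_singleton_le_span_singleton.2 (dvd_pow_self τ (Nat.succ_ne_zero n)) (hv j))
        simp only [map_zero, Pi.zero_apply, Matrix.vecMulLinear_apply, Matrix.vecMul, dotProduct, map_sum, map_mul] at this ⊢
        simpa [hP0] using this
      have hv' : ∀ i, ∃ w, v i = τ * w := fun i => Ideal.mem_span_singleton.1 (Ideal.Quotient.eq_zero_iff_mem.1 (congrFun h0 i))
      choose w hw using hv'
      have := ih w (fun j => by
        obtain ⟨b, hb⟩ := Ideal.mem_span_singleton.1 (hv j)
        refine Ideal.mem_span_singleton.2 ⟨b, sub_eq_zero.1 (hreg' _ ?_)⟩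
        rw [mul_sub, sub_eq_zero, ← mul_assoc, ← pow_succ', ← hb]
        simp only [Matrix.vecMul, dotProduct, Finset.mul_sum, hw, mul_assoc]) i
      obtain ⟨b, hb⟩ := Ideal.mem_span_singleton.1 this
      exact Ideal.mem_span_singleton.2 ⟨b, by rw [hw, hb, pow_succ', mul_assoc]⟩
  refine ⟨hcr, fun v n => hdiv n v, (injective_iff_map_eq_zero _).2 fun v hv => _root_.funext fun i => ?_⟩
  haveI : IsHausdorff I B := IsAdicComplete.toIsHausdorff
  refine IsHausdorff.haus (inferInstance : IsHausdorff I B) _ fun n => SModEq.zero.2 ?_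
  rw [smul_eq_mul, Ideal.mul_top, Ideal.span_singleton_pow]
  exact hdiv n v (fun j => by rw [show Matrix.vecMul v (jac a ψ) j = 0 from congrFun hv j]; exact zero_mem _) i

end FormalCILib
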