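import Groth.Agent.FormalCILib.Deriv
import Groth.Agent.CIFittLib.Basic
import Mathlib

/-!
# The completed differentials of a complete quotient of the restricted power series
-/

set_option autoImplicit false
set_option linter.unusedSectionVars false
set_option linter.style.haveILetI false
set_option maxSynthPendingDepth 3

universe u

open MvPolynomial

namespace FormalCILib

variable {A : Type u} [CommRing A] {t : A} {r c : ℕ} {B : Type u} [CommRing B] [Algebra A B]

/-- The Jacobian matrix. -/
noncomputable def jac (a : Fin c → Hat t r) (ψ : Hat t r →ₐ[A] B) : Matrix (Fin c) (Fin r) B :=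
  Matrix.of fun i j => ψ (dHat t r j (a i))

/-- The differentials of the coordinates. -/
noncomputable def dX (ψ : Hat t r →ₐ[A] B) (j : Fin r) : Ω[B⁄A] :=
  KaehlerDifferential.D A B (ψ (am t r (X j)))

theorem D_am (ψ : Hat t r →ₐ[A] B) (p : MvPolynomial (Fin r) A) :
    KaehlerDifferential.D A B (ψ (am t r p)) = ∑ j, ψ (am t r (pderiv j p)) • dX ψ j := by
  classical
  induction p using MvPolynomial.induction_on with
  | C a => rw [am_C, AlgHom.commutes, Derivation.map_algebraMap]; simp
  | add p q hp hq => simp only [map_add, hp, hq, add_smul, Finset.sum_add_distrib]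
  | mul_X p k hp =>
    rw [map_mul, map_mul, Derivation.leibniz, hp, Finset.smul_sum]
    simp only [pderiv_mul, map_add, map_mul, add_smul, Finset.sum_add_distrib, smul_smul]
    rw [add_comm]
    congr 1
    · exact Finset.sum_congr rfl fun j _ => by rw [mul_comm]
    · rw [Finset.sum_eq_single k (fun j _ hjk => by simp [Ne.symm hjk]) (by simp)]
      simp [dX]

theorem D_sub_mem (ψ : Hat t r →ₐ[A] B) (n : ℕ) (g : Hat t r) :
    KaehlerDifferential.D A B (ψ g) - ∑ j, ψ (dHat t r j g) • dX ψ j ∈
      (Ideal.span {algebraMap A B t} ^ n • ⊤ : Submodule B Ω[B⁄A]) := by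
  obtain ⟨p, z, rfl⟩ := exists_approx t r n g
  simp only [map_add, dHat_am, dHat_pow_mul, D_am, map_mul, map_pow, AlgHom.commutes, add_smul,
    Finset.sum_add_distrib, mul_smul, ← Finset.smul_sum]
  rw [add_sub_add_left_eq_sub, ← map_pow, ← Algebra.smul_def, Derivation.map_smul, algebraMap_smul B (t ^ n),
    ← smul_sub, ← algebraMap_smul B (t ^ n)]
  exact Submodule.smul_mem_smul (by rw [map_pow]; exact Ideal.pow_mem_pow (Ideal.mem_span_singleton_self _) n)
    Submodule.mem_top

/-- The differentials map to the cokernel of the Jacobian. -/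
theorem exists_lin (ψ : Hat t r →ₐ[A] B) (hψ : Function.Surjective ψ) (a : Fin c → Hat t r)
    (hker : RingHom.ker ψ.toRingHom = Ideal.span (Set.range a)) :
    ∃ L : Ω[B⁄A] →ₗ[B] (Fin r → B) ⧸ Submodule.span B (Set.range fun i => jac a ψ i),
      ∀ g, L (KaehlerDifferential.D A B (ψ g)) = Submodule.Quotient.mk fun j => ψ (dHat t r j g) := by
  classical
  let W := (Fin r → B) ⧸ Submodule.span B (Set.range fun i => jac a ψ i)
  let δ : Hat t r → W := fun g => Submodule.Quotient.mk fun j => ψ (dHat t r j g)
  have δadd : ∀ p q, δ (p + q) = δ p + δ q := fun p q => by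
    rw [← Submodule.Quotient.mk_add]
    exact congrArg _ (_root_.funext fun j => by simp)
  have δmul : ∀ p q, δ (p * q) = ψ p • δ q + ψ q • δ p := fun p q => by
    simp only [δ, ← Submodule.Quotient.mk_smul, ← Submodule.Quotient.mk_add]
    exact congrArg _ (_root_.funext fun j => by simp [Derivation.leibniz])
  have hf0 : ∀ i, ψ (a i) = 0 := fun i => RingHom.mem_ker.1 (hker.ge (Ideal.subset_span ⟨i, rfl⟩))
  have δker : ∀ p, ψ p = 0 → δ p = 0 := by
    intro p hp
    obtain ⟨c', rfl⟩ := Ideal.mem_span_range_iff_exists_fun.1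
      ((show p ∈ Ideal.span (Set.range a) from hker ▸ (RingHom.mem_ker.2 hp)))
    refine (Submodule.Quotient.mk_eq_zero _).2 ?_
    have : (fun j => ψ (dHat t r j (∑ i, c' i * a i))) = ∑ i, ψ (c' i) • jac a ψ i := by
      funext j
      rw [map_sum, map_sum, Finset.sum_apply]
      refine Finset.sum_congr rfl fun i _ => ?_
      simp [Derivation.leibniz, hf0, jac]
    rw [this]
    exact Submodule.sum_mem _ fun i _ => Submodule.smul_mem _ _ (Submodule.subset_span ⟨i, rfl⟩)
  have δeq : ∀ p q, ψ p = ψ q → δ p = δ q := fun p q h => by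
    have := δker (p - q) (by rw [map_sub, h, sub_self])
    have h2 := δadd (p - q) q
    rwa [sub_add_cancel, this, zero_add] at h2
  let s : B → Hat t r := fun y => Function.surjInv hψ y
  have hs : ∀ y, ψ (s y) = y := fun y => Function.surjInv_eq hψ y
  have δalg : ∀ x : A, δ (algebraMap A (Hat t r) x) = 0 := fun x => by
    refine (Submodule.Quotient.mk_eq_zero _).2 ?_
    rw [show (fun j => ψ (dHat t r j (algebraMap A (Hat t r) x))) = 0 from _root_.funext fun j => by simp]
    exact Submodule.zero_mem _
  let d : Derivation A B W :=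
    { toFun := fun y => δ (s y)
      map_add' := fun x y => by rw [← δadd]; exact δeq _ _ (by rw [map_add, hs, hs, hs])
      map_smul' := fun x y => by
        show δ (s (x • y)) = x • δ (s y)
        rw [δeq (s (x • y)) (algebraMap A (Hat t r) x * s y) (by
          rw [map_mul, hs, hs, AlgHom.commutes, Algebra.smul_def]), δmul, δalg, smul_zero, add_zero, AlgHom.commutes,
          algebraMap_smul]
      map_one_eq_zero' := by
        show δ (s 1) = 0
        rw [δeq (s 1) (algebraMap A (Hat t r) 1) (by rw [hs, map_one, map_one]), δalg]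
      leibniz' := fun x y => by
        show δ (s (x * y)) = x • δ (s y) + y • δ (s x)
        rw [δeq (s (x * y)) (s x * s y) (by rw [map_mul, hs, hs, hs]), δmul, hs, hs] }
  refine ⟨d.liftKaehlerDifferential, fun g => ?_⟩
  rw [Derivation.liftKaehlerDifferential_comp_D]
  exact δeq _ _ (hs _)

/-- The completed differentials are presented by the Jacobian matrix. -/
theorem presentation [IsNoetherianRing B] [IsAdicComplete (Ideal.span {algebraMap A B t}) B]
    (ψ : Hat t r →ₐ[A] B) (hψ : Function.Surjective ψ) (a : Fin c → Hat t r)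
    (hker : RingHom.ker ψ.toRingHom = Ideal.span (Set.range a)) :
    ∃ q : (Fin r → B) →ₗ[B] AdicCompletion (Ideal.span {algebraMap A B t}) Ω[B⁄A],
      Function.Surjective q ∧ Function.Exact (jac a ψ).vecMulLinear q := by
  classical
  let I := Ideal.span {algebraMap A B t}
  let rows := Submodule.span B (Set.range fun i => jac a ψ i)
  let N := (Fin r → B) ⧸ rows
  obtain ⟨L, hL⟩ := exists_lin ψ hψ a hker
  let q0 : (Fin r → B) →ₗ[B] Ω[B⁄A] := Fintype.linearCombination B (dX ψ)
  let q : (Fin r → B) →ₗ[B] AdicCompletion I Ω[B⁄A] := (AdicCompletion.of I Ω[B⁄A]).comp q0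
  have hf0 : ∀ i, ψ (a i) = 0 := fun i => RingHom.mem_ker.1 (hker.ge (Ideal.subset_span ⟨i, rfl⟩))
  have hrows : ∀ n, rows ≤ LinearMap.ker ((I ^ n • ⊤ : Submodule B Ω[B⁄A]).mkQ.comp q0) := fun n => by
    rw [Submodule.span_le]
    rintro _ ⟨i, rfl⟩
    have h := D_sub_mem ψ n (a i)
    rw [hf0, map_zero, zero_sub, Submodule.neg_mem_iff] at h
    simp only [SetLike.mem_coe, LinearMap.mem_ker, LinearMap.comp_apply, Submodule.mkQ_apply,
      Submodule.Quotient.mk_eq_zero]
    simpa [q0, Fintype.linearCombination_apply, jac] using h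
  -- the maps at each level
  let qn : ∀ n, N →ₗ[B] Ω[B⁄A] ⧸ (I ^ n • ⊤ : Submodule B Ω[B⁄A]) := fun n => rows.liftQ _ (hrows n)
  have hqn : ∀ n ω, qn n (L ω) = Submodule.Quotient.mk ω := by
    intro n
    have : (qn n).comp L = (I ^ n • ⊤ : Submodule B Ω[B⁄A]).mkQ := by
      refine LinearMap.ext_on_range (KaehlerDifferential.span_range_derivation A B) fun b => ?_
      obtain ⟨g, rfl⟩ := hψ b
      rw [LinearMap.comp_apply, hL]
      show Submodule.Quotient.mk (q0 _) = Submodule.Quotient.mk _
      rw [Submodule.Quotient.eq, ← Submodule.neg_mem_iff, neg_sub]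
      simpa [q0, Fintype.linearCombination_apply] using D_sub_mem ψ n g
    exact fun ω => LinearMap.congr_fun this ω
  have hLq : ∀ w, L (q0 w) = Submodule.Quotient.mk w := by
    intro w
    have hw : w = ∑ j, w j • (Pi.single j 1 : Fin r → B) := pi_eq_sum_univ' w
    conv_rhs => rw [hw]
    simp only [q0, Fintype.linearCombination_apply, map_sum, map_smul, ← Submodule.mkQ_apply]
    refine Finset.sum_congr rfl fun j _ => congrArg _ ((hL _).trans ?_)
    refine congrArg _ (_root_.funext fun l => ?_)
    rw [dHat_am]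
    by_cases hjl : j = l
    · subst hjl; simp
    · simp [hjl, Ne.symm hjl]
  -- completeness of the cokernel
  haveI : IsHausdorff I N := IsHausdorff.of_le_jacobson I N (IsAdicComplete.le_jacobson_bot I)
  have hNsur : Function.Surjective (AdicCompletion.of I N) := by
    have h1 : Function.Surjective (AdicCompletion.of I B) := AdicCompletion.of_surjective I B
    intro y
    obtain ⟨z, rfl⟩ := AdicCompletion.ofTensorProduct_surjective_of_finite I N y
    induction z using TensorProduct.induction_on with
    | zero => exact ⟨0, by simp⟩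
    | tmul x m =>
      obtain ⟨b, rfl⟩ := h1 x
      refine ⟨b • m, ?_⟩
      rw [AdicCompletion.ofTensorProduct_tmul, map_smul]
      exact (algebraMap_smul (AdicCompletion I B) b (AdicCompletion.of I N m)).symm
    | add x y hx hy =>
      obtain ⟨m, hm⟩ := hx; obtain ⟨m', hm'⟩ := hy
      exact ⟨m + m', by rw [map_add, map_add, hm, hm']⟩
  refine ⟨q, fun z => ?_, fun w => ?_⟩
  · obtain ⟨nu, hnu⟩ := hNsur (AdicCompletion.map I L z)
    obtain ⟨w, rfl⟩ := Submodule.Quotient.mk_surjective _ nu
    refine ⟨w, AdicCompletion.ext fun n => ?_⟩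
    obtain ⟨ω, hω⟩ := Submodule.Quotient.mk_surjective _ (z.val n)
    have h1 := congrArg (fun y => AdicCompletion.eval I N n y) hnu
    have h2 : AdicCompletion.eval I N n (AdicCompletion.map I L z) = Submodule.Quotient.mk (L ω) := by
      show (AdicCompletion.map I L z).val n = _
      rw [AdicCompletion.map_val_apply, ← hω]
      rfl
    rw [h2] at h1
    change Submodule.Quotient.mk (Submodule.Quotient.mk w) = Submodule.Quotient.mk (L ω) at h1
    rw [Submodule.Quotient.eq] at h1
    have h3 : qn n (Submodule.Quotient.mk w - L ω) = 0 := by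
      have hle : (I ^ n • ⊤ : Submodule B N) ≤ LinearMap.ker (qn n) := by
        refine Submodule.smul_le.2 fun s hs m _ => ?_
        rw [LinearMap.mem_ker, map_smul]
        obtain ⟨y, hy⟩ := Submodule.Quotient.mk_surjective _ (qn n m)
        rw [← hy, ← Submodule.Quotient.mk_smul, Submodule.Quotient.mk_eq_zero]
        exact Submodule.smul_mem_smul hs Submodule.mem_top
      exact LinearMap.mem_ker.1 (hle h1)
    rw [map_sub, sub_eq_zero, hqn] at h3
    exact h3.trans hω
  · constructor
    · intro hw
      have hw' : (Submodule.Quotient.mk w : N) = 0 := IsHausdorff.haus (inferInstance : IsHausdorff I N) _ fun n => by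
        refine SModEq.zero.2 ?_
        rw [← hLq]
        have h : Submodule.Quotient.mk (q0 w) = (0 : Ω[B⁄A] ⧸ (I ^ n • ⊤ : Submodule B Ω[B⁄A])) :=
          congrArg (fun y : AdicCompletion I Ω[B⁄A] => y.val n) hw
        rw [Submodule.Quotient.mk_eq_zero] at h
        exact Submodule.smul_top_le_comap_smul_top (I ^ n) L h
      rw [Submodule.Quotient.mk_eq_zero] at hw'
      obtain ⟨y, hy⟩ := (Submodule.mem_span_range_iff_exists_fun B).1 hw'
      exact ⟨y, by rw [← hy]; exact _root_.funext fun j => by simp [Matrix.vecMul, dotProduct, Finset.sum_apply]⟩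
    · rintro ⟨y, rfl⟩
      refine AdicCompletion.ext fun n => ?_
      have hmem : (jac a ψ).vecMulLinear y ∈ rows := (Submodule.mem_span_range_iff_exists_fun B).2
        ⟨y, _root_.funext fun j => by simp [Matrix.vecMul, dotProduct, Finset.sum_apply]⟩
      exact LinearMap.mem_ker.1 (hrows n hmem)

end FormalCILib
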